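import Groth.Agent.Lib.CI20.PullIdeal
import Groth.Agent.Lib.HodgeIndex.Pullback
import Groth.Agent.Lib.PPGen.DiffBasic
import Groth.Agent.Lib.FSchSys.Basic
import Groth.Prelude.Def_OmegaPn

/-!
The graded pieces of the ideal of a closed immersion commute with flat base change.
-/

set_option autoImplicit false
set_option backward.isDefEq.respectTransparency false
set_option linter.style.haveILetI false

universe u

open CategoryTheory CategoryTheory.Limits AlgebraicGeometry TopologicalSpace Opposite TensorProduct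

noncomputable section

namespace GrothLib.GrBC

open GrothLib.OmegaBC

variable {X Y Z : Scheme.{u}}

/-- The inverse image of sections of the structure module is the inverse image of functions. -/
theorem pullUnit_pullSect (f : X ⟶ Y) (U : Y.Opens) (r : Γ(Coh.structureModule Y, U)) :
    (ParaLocal.pullUnit f).hom.app (f ⁻¹ᵁ U) (OmegaSh.pullSect f (Coh.structureModule Y) U r) =
      f.app U r := by
  have : (SheafOfModules.pushforward.{u} f.toRingCatSheafHom).IsRightAdjoint :=
    (Scheme.Modules.pullbackPushforwardAdjunction f).isRightAdjoint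
  have h := (((Scheme.Modules.pullbackPushforwardAdjunction f).homEquiv_unit
    (Coh.structureModule Y) (Coh.structureModule X) (ParaLocal.pullUnit f).hom).symm).trans
    (Equiv.apply_symm_apply _ (SheafOfModules.unitToPushforwardObjUnit f.toRingCatSheafHom))
  exact congrArg (fun k : Coh.structureModule Y ⟶ (Scheme.Modules.pushforward f).obj (Coh.structureModule X) =>
    k.app U r) h

/-- A map applied to a pulled back section. -/
theorem pullback_map_pullSect (f : X ⟶ Y) {M N : Y.Modules} (a : M ⟶ N) (U : Y.Opens) (t : Γ(M, U)) :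
    ((Scheme.Modules.pullback f).map a).app (f ⁻¹ᵁ U) (OmegaSh.pullSect f M U t) =
      OmegaSh.pullSect f N U (a.app U t) :=
  (congr($((Scheme.Modules.pullbackPushforwardAdjunction f).unit.naturality a).app U t) : _).symm

/-- The comparison of iterated pullbacks on sections. -/
theorem pullbackComp_inv_pullSect (f : X ⟶ Y) (g : Y ⟶ Z) (M : Z.Modules) (U : Z.Opens) (t : Γ(M, U)) :
    ((Scheme.Modules.pullbackComp f g).inv.app M).app (f ⁻¹ᵁ (g ⁻¹ᵁ U)) (OmegaSh.pullSect (f ≫ g) M U t) =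
      OmegaSh.pullSect f _ (g ⁻¹ᵁ U) (OmegaSh.pullSect g M U t) := by
  have h := unit_conjugateEquiv
    ((Scheme.Modules.pullbackPushforwardAdjunction g).comp (Scheme.Modules.pullbackPushforwardAdjunction f))
    (Scheme.Modules.pullbackPushforwardAdjunction (f ≫ g)) (Scheme.Modules.pullbackComp f g).inv M
  rw [Scheme.Modules.conjugateEquiv_pullbackComp_inv] at h
  exact (congr($(h).app U t) : _).symm

theorem pullbackComp_hom_pullSect (f : X ⟶ Y) (g : Y ⟶ Z) (M : Z.Modules) (U : Z.Opens) (t : Γ(M, U)) :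
    ((Scheme.Modules.pullbackComp f g).hom.app M).app (f ⁻¹ᵁ (g ⁻¹ᵁ U))
        (OmegaSh.pullSect f _ (g ⁻¹ᵁ U) (OmegaSh.pullSect g M U t)) =
      OmegaSh.pullSect (f ≫ g) M U t := by
  rw [← pullbackComp_inv_pullSect]
  exact congr($((Scheme.Modules.pullbackComp f g).inv_hom_id_app M).app _ (OmegaSh.pullSect (f ≫ g) M U t))

/-- A pulled back section along equal morphisms. -/
theorem pullbackCongr_pullSect {f g : X ⟶ Y} (e : f = g) (M : Y.Modules) (U : Y.Opens) (t : Γ(M, U))
    (h : f ⁻¹ᵁ U ≤ g ⁻¹ᵁ U) :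
    ((Scheme.Modules.pullbackCongr e).hom.app M).app (f ⁻¹ᵁ U) (OmegaSh.pullSect f M U t) =
      ((Scheme.Modules.pullback g).obj M).presheaf.map (homOfLE h).op (OmegaSh.pullSect g M U t) := by
  subst e
  rw [show (homOfLE h).op = 𝟙 _ from rfl, CategoryTheory.Functor.map_id]
  rfl

/-- Pullback by a flat morphism of the inclusion of an ideal is a monomorphism. -/
theorem mono_pullι (f : X ⟶ Y) [Flat f] (I : Y.IdealSheafData) : Mono (pullι f I) := by
  rw [OX.mono_iff]
  intro x
  letI := (f.stalkMap x).hom.toAlgebra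
  haveI : Module.Flat (Y.presheaf.stalk (f x)) (X.presheaf.stalk x) := Flat.stalkMap f x
  rw [ModuleCat.mono_iff_injective]
  have hnat : toStalk f (ClSub.idealMod I) x ≫ (OX.stalk x).map (pullι f I) =
      (ModuleCat.extendScalars (f.stalkMap x).hom).map ((OX.stalk (f x)).map (ClSub.idealModι I)) ≫
        (unitBC f x).hom := by
    show _ ≫ (OX.stalk x).map (_ ≫ _) = _
    rw [Functor.map_comp]
    exact ((Category.assoc _ _ _).symm.trans (congrArg (· ≫ _)
      ((OX.pullStalkIso f x).inv.naturality (ClSub.idealModι I)).symm)).trans (Category.assoc _ _ _)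
  haveI : IsIso (toStalk f (ClSub.idealMod I) x) := by unfold toStalk; infer_instance
  have hinj : Function.Injective
      ((ModuleCat.extendScalars (f.stalkMap x).hom).map ((OX.stalk (f x)).map (ClSub.idealModι I))).hom := by
    have hn : Function.Injective ((OX.stalk (f x)).map (ClSub.idealModι I)).hom := fun a b h =>
      sval_injective I (f x) (congrArg (ouni (f x)).symm h)
    exact Module.Flat.lTensor_preserves_injective_linearMap
      (M := X.presheaf.stalk x) ((OX.stalk (f x)).map (ClSub.idealModι I)).hom hn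
  have h2 : Function.Injective (toStalk f (ClSub.idealMod I) x ≫ (OX.stalk x).map (pullι f I)).hom := by
    rw [hnat]
    exact ((unitBC f x).toLinearEquiv.injective.comp hinj)
  intro a b hab
  obtain ⟨a', rfl⟩ := (asIso (toStalk f (ClSub.idealMod I) x)).toLinearEquiv.surjective a
  obtain ⟨b', rfl⟩ := (asIso (toStalk f (ClSub.idealMod I) x)).toLinearEquiv.surjective b
  exact congrArg _ (h2 hab)

/-- The pulled back ideal surjects on the ideal of the inverse image. -/
theorem epi_pullToComap (f : X ⟶ Y) (I : Y.IdealSheafData) : Epi (CI20.pullToComap f I) := by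
  refine (OX.epi_iff _).2 fun x => (ModuleCat.epi_iff_surjective _).2 ?_
  letI := (f.stalkMap x).hom.toAlgebra
  let T := (toStalk f (ClSub.idealMod I) x ≫ (OX.stalk x).map (CI20.pullToComap f I)).hom
  obtain ⟨v, hvu, hv⟩ := exists_unit_pullι f I x
  have hα : CI20.pullToComap f I ≫ ClSub.idealModι (I.comap f) = pullι f I := kernel.lift_ι _ _ _
  have hT : ∀ n, ∃ t, sval (I.comap f) x (T t) = v * (f.stalkMap x) (sval I (f x) n) := fun n => by
    refine ⟨(1 : X.presheaf.stalk x) ⊗ₜ[Y.presheaf.stalk (f x)] n, Eq.trans ?_ (hv n)⟩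
    rw [← hα, Functor.map_comp]
    rfl
  have hle : Goodman.st (I.comap f) x ≤ LinearMap.range ((sval (I.comap f) x).comp T) := by
    rw [HodgeIndex.st_comap]
    refine Ideal.map_le_iff_le_comap.2 ?_
    rintro a ⟨n, rfl⟩
    obtain ⟨t, ht⟩ := hT n
    obtain ⟨w, hw⟩ := hvu.exists_left_inv
    refine ⟨w • t, ?_⟩
    rw [map_smul, LinearMap.comp_apply, ht, smul_eq_mul, ← mul_assoc, hw, one_mul]
  intro z
  obtain ⟨t, ht⟩ := hle (show sval (I.comap f) x z ∈ Goodman.st (I.comap f) x from ⟨z, rfl⟩)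
  exact ⟨(toStalk f (ClSub.idealMod I) x).hom t, sval_injective (I.comap f) x ht⟩

theorem isIso_pullToComap_of_flat (f : X ⟶ Y) [Flat f] (I : Y.IdealSheafData) :
    IsIso (CI20.pullToComap f I) := by
  haveI := epi_pullToComap f I
  haveI : Mono (CI20.pullToComap f I) := by
    haveI : Mono (CI20.pullToComap f I ≫ ClSub.idealModι (I.comap f)) := by
      rw [show CI20.pullToComap f I ≫ ClSub.idealModι (I.comap f) = pullι f I from kernel.lift_ι _ _ _]
      exact mono_pullι f I
    exact mono_of_mono _ (ClSub.idealModι (I.comap f))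
  exact isIso_of_mono_of_epi _

/-- The main statement. -/
theorem isIso_grMap {X' Y' : Scheme.{u}} (f : Y ⟶ X) [IsClosedImmersion f] (v : X' ⟶ X) [Flat v]
    (u : Y' ⟶ Y) (f' : Y' ⟶ X') (hsq : IsPullback u f' f v) (n : ℕ)
    (φ : (Scheme.Modules.pullback u).obj (PrinPart.grMod f n) ⟶ PrinPart.grMod f' n)
    (hφ : PrinPart.IsGrMap f' f v u n φ) : IsIso φ := by
  have hK : (f.ker ^ n).comap v = f'.ker ^ n := by
    rw [GrothLib.FSchSys.comap_pow, GrothLib.FSchSys.ker_eq_comap_of_isPullback hsq.flip]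
  obtain ⟨θ, hθiso, hθ⟩ : ∃ θ : (Scheme.Modules.pullback v).obj (ClSub.idealMod (f.ker ^ n)) ⟶
      ClSub.idealMod (f'.ker ^ n), IsIso θ ∧ θ ≫ ClSub.idealModι (f'.ker ^ n) = pullι v (f.ker ^ n) := by
    rw [← hK]
    exact ⟨CI20.pullToComap v _, isIso_pullToComap_of_flat v _, kernel.lift_ι _ _ _⟩
  let M := ClSub.idealMod (f.ker ^ n)
  let φ' : (Scheme.Modules.pullback u).obj (PrinPart.grMod f n) ⟶ PrinPart.grMod f' n :=
    (Scheme.Modules.pullbackComp u f).hom.app M ≫ (Scheme.Modules.pullbackCongr hsq.w).hom.app M ≫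
      (Scheme.Modules.pullbackComp f' v).inv.app M ≫ (Scheme.Modules.pullback f').map θ
  have hiso : IsIso φ' := inferInstance
  suffices φ = φ' by rw [this]; exact hiso
  refine ((Scheme.Modules.pullbackPushforwardAdjunction u).homEquiv _ _).injective
    (PPGen.hom_ext_pullSect f _ _ fun U t => ?_)
  refine (congr($((Scheme.Modules.pullbackPushforwardAdjunction u).homEquiv_unit _ _ φ).app (f ⁻¹ᵁ U)
    (OmegaSh.pullSect f M U t))).trans (Eq.trans ?_
    (congr($((Scheme.Modules.pullbackPushforwardAdjunction u).homEquiv_unit _ _ φ').app (f ⁻¹ᵁ U)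
    (OmegaSh.pullSect f M U t))).symm)
  show φ.app (u ⁻¹ᵁ (f ⁻¹ᵁ U)) (OmegaSh.pullSect u _ _ (PrinPart.grSect f n U t)) =
    φ'.app (u ⁻¹ᵁ (f ⁻¹ᵁ U)) (OmegaSh.pullSect u _ _ (OmegaSh.pullSect f M U t))
  have hle : u ⁻¹ᵁ (f ⁻¹ᵁ U) ≤ f' ⁻¹ᵁ (v ⁻¹ᵁ U) := by
    rw [← Scheme.Hom.comp_preimage, hsq.w, Scheme.Hom.comp_preimage]
  have hs : OmegaSh.idealSect (f'.ker ^ n) (v ⁻¹ᵁ U) (θ.app (v ⁻¹ᵁ U) (OmegaSh.pullSect v M U t)) =
      v.app U (OmegaSh.idealSect (f.ker ^ n) U t) := by
    show (θ ≫ ClSub.idealModι (f'.ker ^ n)).app (v ⁻¹ᵁ U) (OmegaSh.pullSect v M U t) = _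
    rw [hθ]
    refine (congrArg ((ParaLocal.pullUnit v).hom.app (v ⁻¹ᵁ U))
      (pullback_map_pullSect v (ClSub.idealModι (f.ker ^ n)) U t)).trans ?_
    exact pullUnit_pullSect v U _
  have hl := hφ.2 U t _ hs (u ⁻¹ᵁ (f ⁻¹ᵁ U)) le_rfl hle
  rw [show (homOfLE (le_refl (u ⁻¹ᵁ (f ⁻¹ᵁ U)))).op = 𝟙 _ from rfl, CategoryTheory.Functor.map_id] at hl
  refine hl.trans ?_
  show _ = ((Scheme.Modules.pullback f').map θ).app _ (((Scheme.Modules.pullbackComp f' v).inv.app M).app _
    (((Scheme.Modules.pullbackCongr hsq.w).hom.app M).app _ (((Scheme.Modules.pullbackComp u f).hom.app M).app _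
      (OmegaSh.pullSect u _ _ (OmegaSh.pullSect f M U t)))))
  rw [pullbackComp_hom_pullSect u f M U t]
  erw [pullbackCongr_pullSect hsq.w M U t hle]
  have nat : ∀ {A B : Y'.Modules} (c : A ⟶ B) (x : Γ(A, f' ⁻¹ᵁ (v ⁻¹ᵁ U))),
      c.app (u ⁻¹ᵁ (f ⁻¹ᵁ U)) (A.presheaf.map (homOfLE hle).op x) =
        B.presheaf.map (homOfLE hle).op (c.app (f' ⁻¹ᵁ (v ⁻¹ᵁ U)) x) :=
    fun c x => congr($((Scheme.Modules.Hom.mapPresheaf c).naturality (homOfLE hle).op) x)
  erw [nat ((Scheme.Modules.pullbackComp f' v).inv.app M) (OmegaSh.pullSect (f' ≫ v) M U t)]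
  erw [nat ((Scheme.Modules.pullback f').map θ)]
  refine congrArg _ ?_
  erw [pullbackComp_inv_pullSect f' v M U t]
  exact (pullback_map_pullSect f' θ (v ⁻¹ᵁ U) (OmegaSh.pullSect v M U t)).symm

end GrothLib.GrBC
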